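import Mathlib
import Cfsg.Agent.H105.Og.Defs
import Cfsg.Agent.LieClassical.SLGen
import Cfsg.Agent.LieClassical.OrthFinite
import Cfsg.Agent.LieClassical.OrthTrans
import Cfsg.Agent.H514.DP.Cyc_m3
import Cfsg.Agent.H990.TC.OrthCent
import Cfsg.Agent.Prune
set_option linter.all false

section
prune_inst 0x7f00000000000000000000000000000000000000000000000000000000000000000000000000000000000000000000000000000000000000000000000000000000000000000000000000000000000000003fffffffffffffffffffffffffffbeffbdffffffff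

-- part: H105/Og/Engine
section
set_option linter.all false
open scoped Cfsg.Agent.FastGrp

-- part: H105/Og/SlE
section
/-!
# `SL κ F → E (HU κ R)` (helper105)
-/

set_option autoImplicit false

namespace Cfsg.Agent.H105.Og

open QuadraticMap Matrix Module Cfsg.Agent.LieClassical.SLGen Cfsg.Agent.LieClassical.OrthCore
  Cfsg.Agent.LieClassical.OrthTrans Cfsg.Agent.LieClassical.OrthFinite Cfsg.Agent.H514.DP

variable {F : Type*} [Field F] {U : Type*} [AddCommGroup U] [Module F U]
  {κ : Type*} [Fintype κ] [DecidableEq κ]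

theorem trans_mulVec {i j : κ} (h : i ≠ j) (c : F) (v : κ → F) :
    (SpecialLinearGroup.transvection h c).1 *ᵥ v = v + (c * v j) • Pi.single i (1 : F) :=
  transvection_smul h c v

theorem trans_inv_mulVec {i j : κ} (h : i ≠ j) (c : F) (v : κ → F) :
    (((SpecialLinearGroup.transvection h c)⁻¹).1)ᵀ *ᵥ v = v - (c * v i) • Pi.single j (1 : F) := by
  rw [SpecialLinearGroup.transvection_inv, SpecialLinearGroup.transvection_coe,
    Matrix.transpose_add, Matrix.transpose_one, Matrix.transpose_single, Matrix.add_mulVec, Matrix.one_mulVec,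
    Matrix.single_mulVec]
  funext k
  by_cases hk : k = j
  · subst hk
    simp [sub_eq_add_neg]
  · simp [hk, Function.update]

theorem slL_transvection (R : QuadraticForm F U) {i j : κ} (h : i ≠ j) (c : F)
    (hu : HU κ R ((0, Pi.single j c), 0) = 0)
    (hw : polar (HU κ R) ((0, Pi.single j c), 0) ((Pi.single i 1, 0), 0) = 0) :
    slL κ F U (SpecialLinearGroup.transvection h c) =
      siegel (HU κ R) ((0, Pi.single j c), 0) ((Pi.single i 1, 0), 0) hu hw := by
  apply LinearEquiv.ext
  intro v
  rw [siegel_apply, slL_apply, polar_HU, polar_HU, HU_apply, trans_mulVec, trans_inv_mulVec]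
  have e1 : v.1.1 ⬝ᵥ (Pi.single j c : κ → F) = c * v.1.1 j := by
    rw [dotProduct_single, mul_comm]
  have e2 : (Pi.single i 1 : κ → F) ⬝ᵥ v.1.2 = v.1.2 i := by
    rw [single_dotProduct, one_mul]
  have e3 : polar R 0 v.2 = 0 := by simp [polar]
  simp only [zero_dotProduct, dotProduct_zero, e1, e2, e3, map_zero, add_zero, zero_add, zero_mul,
    zero_smul, sub_zero]
  refine Prod.ext (Prod.ext ?_ ?_) ?_
  · funext k
    simp only [_root_.Pi.add_apply, _root_.Pi.smul_apply, _root_.smul_eq_mul, _root_.Prod.smul_mk, _root_.smul_zero, _root_.Prod.fst_sub, _root_.Prod.fst_add, _root_.Pi.sub_apply, _root_.Pi.zero_apply, _root_.sub_zero]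
  · funext k
    by_cases hk : k = j
    · subst hk
      simp only [_root_.Pi.sub_apply, _root_.Pi.smul_apply, _root_.Pi.single_eq_same, _root_.smul_eq_mul, _root_.mul_one, _root_.Prod.smul_mk, _root_.smul_zero, _root_.Prod.fst_sub, _root_.Prod.fst_add, _root_.Prod.snd_sub, _root_.Prod.snd_add, _root_.add_zero, _root_.sub_right_inj]
      ring
    · simp only [hk, _root_.Pi.sub_apply, _root_.Pi.smul_apply, _root_.ne_eq, _root_.not_false_eq_true, _root_.Pi.single_eq_of_ne, _root_.smul_eq_mul, _root_.MulZeroClass.mul_zero, _root_.sub_zero, _root_.Prod.smul_mk, _root_.smul_zero, _root_.Prod.fst_sub, _root_.Prod.fst_add, _root_.Prod.snd_sub, _root_.Prod.snd_add, _root_.add_zero]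
  · simp only [_root_.Prod.smul_mk, _root_.smul_zero, _root_.Prod.snd_sub, _root_.Prod.snd_add, _root_.add_zero, _root_.sub_zero]

theorem slL_mem_E (R : QuadraticForm F U) (M : _root_.Matrix.SpecialLinearGroup κ F) : slL κ F U M ∈ E (HU κ R) := by
  have h1 : (⊤ : Subgroup (_root_.Matrix.SpecialLinearGroup κ F)) ≤ (E (HU κ R)).comap (slL κ F U) := by
    rw [← closure_transvections, Subgroup.closure_le]
    rintro _ ⟨i, j, h, c, rfl⟩
    have hu : HU κ R ((0, Pi.single j c), 0) = 0 := by
      rw [HU_apply]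
      simp only [_root_.dotProduct_single, _root_.Pi.zero_apply, _root_.MulZeroClass.zero_mul, _root_.map_zero, _root_.add_zero]
    have hw : polar (HU κ R) ((0, Pi.single j c), 0) ((Pi.single i 1, 0), 0) = 0 := by
      rw [polar_HU]
      simp only [polar, h, _root_.dotProduct_zero, _root_.dotProduct_single, _root_.ne_eq, _root_.not_false_eq_true, _root_.Pi.single_eq_of_ne', _root_.MulZeroClass.zero_mul, _root_.add_zero, _root_.map_zero, _root_.sub_self]
    rw [SetLike.mem_coe, Subgroup.mem_comap, slL_transvection R h c hu hw]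
    exact siegel_mem_E hu hw
  exact h1 (Subgroup.mem_top M)

/-- the embedding `SL κ F →* E (HU κ R)` -/
def slE (R : QuadraticForm F U) (κ : Type*) [Fintype κ] [DecidableEq κ] :
    _root_.Matrix.SpecialLinearGroup κ F →* E (HU κ R) :=
  (slL κ F U).codRestrict _ (slL_mem_E R)

theorem slE_coe (R : QuadraticForm F U) (M : _root_.Matrix.SpecialLinearGroup κ F) : (slE R κ M : _) = slL κ F U M := rfl

/-! ### Finite fields -/

theorem finrank_HU [FiniteDimensional F U] (n : ℕ) :
    finrank F (((Fin n → F) × (Fin n → F)) × U) = 2 * n + finrank F U := by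
  rw [Module.finrank_prod, Module.finrank_prod, Module.finrank_fin_fun]
  ring

theorem good_HU [Finite F] [FiniteDimensional F U] {n : ℕ} {R : QuadraticForm F U} (hR : Nondeg R)
    (hd : 5 ≤ 2 * n + finrank F U) : Good (HU (Fin n) R) :=
  good_of_finite (nondeg_HU hR) (by rw [finrank_HU]; exact hd)

theorem perfect_of_good {V : Type*} [AddCommGroup V] [Module F V] {Q : QuadraticForm F V} (hG : Good Q) :
    commutator (E Q) = ⊤ := by
  have h := hG.E_perfect
  have h2 : (commutator (E Q)).map (E Q).subtype = E Q := by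
    rw [commutator_def, Subgroup.map_commutator, ← MonoidHom.range_eq_map, Subgroup.range_subtype, h]
  apply Subgroup.map_injective (Subgroup.subtype_injective (E Q))
  rw [h2, ← MonoidHom.range_eq_map, Subgroup.range_subtype]

end Cfsg.Agent.H105.Og
end

-- part: H105/Og/Ext
section
/-!
# Extension of `E (HU κ' R0) → E (HU κ R)` along an injection `κ' ↪ κ` (helper105)
-/

set_option autoImplicit false
set_option linter.unusedSectionVars false

namespace Cfsg.Agent.H105.Og

open QuadraticMap Matrix Module Cfsg.Agent.LieClassical.OrthCore Cfsg.Agent.H514.DP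

section Gen

variable {F : Type*} [Field F] {V0 V : Type*} [AddCommGroup V0] [Module F V0] [AddCommGroup V] [Module F V]

/-- extension by the identity on the kernel of the retraction -/
def extL (i : V0 →ₗ[F] V) (r : V →ₗ[F] V0) (hri : ∀ x, r (i x) = x) (g : V0 ≃ₗ[F] V0) : V ≃ₗ[F] V where
  toFun v := v + i (g (r v) - r v)
  map_add' v w := by simp only [map_add, map_sub]; abel
  map_smul' c v := by simp only [map_smul, map_sub, RingHom.id_apply, smul_add, smul_sub]
  invFun v := v + i (g.symm (r v) - r v)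
  left_inv v := by
    simp only [map_add, map_sub, hri, LinearEquiv.symm_apply_apply]
    abel
  right_inv v := by
    simp only [map_add, map_sub, hri, LinearEquiv.apply_symm_apply]
    abel

variable (i : V0 →ₗ[F] V) (r : V →ₗ[F] V0) (hri : ∀ x, r (i x) = x)

theorem extL_apply (g : V0 ≃ₗ[F] V0) (v : V) : extL i r hri g v = v + i (g (r v) - r v) := rfl

/-- the homomorphism -/
def extH : (V0 ≃ₗ[F] V0) →* (V ≃ₗ[F] V) where
  toFun := extL i r hri
  map_one' := by
    apply LinearEquiv.ext
    intro v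
    rw [extL_apply]
    show v + i (r v - r v) = v
    rw [sub_self, map_zero, add_zero]
  map_mul' g h := by
    apply LinearEquiv.ext
    intro v
    show v + i (g (h (r v)) - r v) = extL i r hri g (extL i r hri h v)
    rw [extL_apply, extL_apply]
    have h1 : r (v + i (h (r v) - r v)) = h (r v) := by rw [map_add, hri]; abel
    rw [h1]
    simp only [map_sub]
    abel

theorem extH_apply (g : V0 ≃ₗ[F] V0) (v : V) : extH i r hri g v = v + i (g (r v) - r v) := rfl

variable {Q0 : QuadraticForm F V0} {Q : QuadraticForm F V} (hQ : ∀ x, Q (i x) = Q0 x)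
  (hp : ∀ x v, polar Q (i x) v = polar Q0 x (r v))

include hQ hp in
theorem extH_siegel {u w : V0} (hu : Q0 u = 0) (hw : polar Q0 u w = 0) :
    extH i r hri (siegel Q0 u w hu hw) =
      siegel Q (i u) (i w) (by rw [hQ, hu]) (by rw [hp, hri, hw]) := by
  apply LinearEquiv.ext
  intro v
  rw [extH_apply, siegel_apply, siegel_apply, hp, hp, hQ]
  simp only [map_sub, map_add, map_smul]
  abel

include hQ hp in
theorem extH_mem {g : V0 ≃ₗ[F] V0} (hg : g ∈ E Q0) : extH i r hri g ∈ E Q := by
  have h : E Q0 ≤ (E Q).comap (extH i r hri) := by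
    rw [E, Subgroup.closure_le]
    rintro _ ⟨u, w, hu, hw, rfl⟩
    rw [SetLike.mem_coe, Subgroup.mem_comap, extH_siegel i r hri hQ hp hu hw]
    exact siegel_mem_E _ _
  exact h hg

/-- the homomorphism of the groups generated by the Siegel elements -/
def extE : E Q0 →* E Q :=
  ((extH i r hri).comp (E Q0).subtype).codRestrict _ (fun g => extH_mem i r hri hQ hp g.2)

theorem extE_coe (g : E Q0) : ((extE i r hri hQ hp g : E Q) : V ≃ₗ[F] V) = extH i r hri g := rfl

end Gen

section HUmap

variable {F : Type*} [Field F] {U0 U : Type*} [AddCommGroup U0] [Module F U0] [AddCommGroup U] [Module F U]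
  {κ' κ : Type*} [Fintype κ'] [Fintype κ]

theorem ext_dot (s : κ' ↪ κ) (x : κ' → F) (y : κ → F) :
    Function.extend s x 0 ⬝ᵥ y = x ⬝ᵥ (y ∘ s) := by
  rw [dotProduct, dotProduct]
  symm
  apply Fintype.sum_of_injective s s.injective
  · intro k hk
    rw [Function.extend_apply' _ _ _ (fun ⟨a, ha⟩ => hk ⟨a, ha⟩)]
    simp
  · intro k
    rw [s.injective.extend_apply]
    rfl

/-- the inclusion -/
noncomputable def inc (s : κ' ↪ κ) (F U0 U : Type*) [Field F] [AddCommGroup U0] [Module F U0] [AddCommGroup U]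
    [Module F U] : (((κ' → F) × (κ' → F)) × U0) →ₗ[F] (((κ → F) × (κ → F)) × U) where
  toFun v := ((Function.extend s v.1.1 0, Function.extend s v.1.2 0), 0)
  map_add' v w := by
    have h := fun (a b : κ' → F) => (Function.extend_add s a b 0 0)
    refine Prod.ext (Prod.ext ?_ ?_) ?_
    · have := h v.1.1 w.1.1
      rw [add_zero] at this
      exact this
    · have := h v.1.2 w.1.2
      rw [add_zero] at this
      exact this
    · exact (add_zero _).symm
  map_smul' c v := by
    have h := fun (a : κ' → F) => (Function.extend_smul c s a 0)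
    refine Prod.ext (Prod.ext ?_ ?_) ?_
    · have := h v.1.1
      rw [smul_zero] at this
      exact this
    · have := h v.1.2
      rw [smul_zero] at this
      exact this
    · exact (smul_zero _).symm

theorem inc_apply (s : κ' ↪ κ) (v : ((κ' → F) × (κ' → F)) × U0) :
    inc s F U0 U v = ((Function.extend s v.1.1 0, Function.extend s v.1.2 0), 0) := rfl

/-- the restriction -/
def res (s : κ' ↪ κ) (F U0 U : Type*) [Field F] [AddCommGroup U0] [Module F U0] [AddCommGroup U]
    [Module F U] : (((κ → F) × (κ → F)) × U) →ₗ[F] (((κ' → F) × (κ' → F)) × U0) where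
  toFun v := ((v.1.1 ∘ s, v.1.2 ∘ s), 0)
  map_add' v w := by
    refine Prod.ext (Prod.ext ?_ ?_) ?_
    · rfl
    · rfl
    · exact (add_zero _).symm
  map_smul' c v := by
    refine Prod.ext (Prod.ext ?_ ?_) ?_
    · rfl
    · rfl
    · exact (smul_zero _).symm

theorem res_apply (s : κ' ↪ κ) (v : ((κ → F) × (κ → F)) × U) :
    res s F U0 U v = ((v.1.1 ∘ s, v.1.2 ∘ s), 0) := rfl

theorem ext_comp (s : κ' ↪ κ) (x : κ' → F) : Function.extend s x 0 ∘ s = x := by
  funext k
  rw [Function.comp_apply, s.injective.extend_apply]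

theorem res_inc (s : κ' ↪ κ) (h0 : ∀ u : U0, u = 0) (v : ((κ' → F) × (κ' → F)) × U0) :
    res s F U0 U (inc s F U0 U v) = v := by
  rw [res_apply, inc_apply]
  refine Prod.ext (Prod.ext ?_ ?_) ?_
  · exact ext_comp s _
  · exact ext_comp s _
  · exact (h0 _).symm

theorem HU_inc (s : κ' ↪ κ) (h0 : ∀ u : U0, u = 0) (R0 : QuadraticForm F U0) (R : QuadraticForm F U)
    (v : ((κ' → F) × (κ' → F)) × U0) : HU κ R (inc s F U0 U v) = HU κ' R0 v := by
  rw [HU_apply, HU_apply, inc_apply, ext_dot, ext_comp, h0 v.2, map_zero, map_zero]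

theorem polar_inc (s : κ' ↪ κ) (h0 : ∀ u : U0, u = 0) (R0 : QuadraticForm F U0) (R : QuadraticForm F U)
    (x : ((κ' → F) × (κ' → F)) × U0) (v : ((κ → F) × (κ → F)) × U) :
    polar (HU κ R) (inc s F U0 U x) v = polar (HU κ' R0) x (res s F U0 U v) := by
  rw [polar_HU, polar_HU, inc_apply, res_apply, ext_dot, dotProduct_comm v.1.1, ext_dot, h0 x.2]
  have e1 : polar R 0 v.2 = 0 := by simp [polar]
  have e2 : polar R0 0 0 = 0 := by simp [polar]
  rw [e1, e2, dotProduct_comm (v.1.1 ∘ s)]

/-- the extension homomorphism -/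
noncomputable def psi (s : κ' ↪ κ) (h0 : ∀ u : U0, u = 0) (R0 : QuadraticForm F U0) (R : QuadraticForm F U) :
    E (HU κ' R0) →* E (HU κ R) :=
  extE (inc s F U0 U) (res s F U0 U) (res_inc s h0) (HU_inc s h0 R0 R) (polar_inc s h0 R0 R)

variable [DecidableEq κ'] [DecidableEq κ]

theorem embM_transpose (s : κ' ↪ κ) (M : Matrix κ' κ' F) : (embM s M)ᵀ = embM s Mᵀ := by
  refine eq_embM _ _ _ (fun i j => ?_) (fun x y hx => ?_) (fun x y hy => ?_)
  · rw [transpose_apply, embM_apply, transpose_apply]
  · rw [transpose_apply, embM_right s M y hx, one_apply, one_apply]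
    simp only [eq_comm]
  · rw [transpose_apply, embM_left s M hy, one_apply, one_apply]
    simp only [eq_comm]

theorem embM_mulVec' (s : κ' ↪ κ) (M : Matrix κ' κ' F) (x : κ → F) :
    embM s M *ᵥ x = x + Function.extend s (M *ᵥ (x ∘ s) - x ∘ s) 0 := by
  funext k
  by_cases hk : k ∈ Set.range s
  · obtain ⟨a, rfl⟩ := hk
    rw [Pi.add_apply, s.injective.extend_apply, Pi.sub_apply, Function.comp_apply, add_sub_cancel, mulVec,
      mulVec, dotProduct, dotProduct]
    symm
    apply Fintype.sum_of_injective s s.injective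
    · intro y hy
      rw [embM_right s M _ hy, one_apply_ne, zero_mul]
      rintro rfl
      exact hy ⟨a, rfl⟩
    · intro b
      rw [embM_apply]
      rfl
  · rw [Pi.add_apply, Function.extend_apply' _ _ _ (fun ⟨a, ha⟩ => hk ⟨a, ha⟩), mulVec]
    have : (fun j => embM s M k j) = (1 : Matrix κ κ F) k := by
      funext y
      exact embM_left s M hk y
    rw [this, ← mulVec, one_mulVec]
    simp

theorem psi_slE (s : κ' ↪ κ) (h0 : ∀ u : U0, u = 0) (R0 : QuadraticForm F U0) (R : QuadraticForm F U)
    (M : _root_.Matrix.SpecialLinearGroup κ' F) : psi s h0 R0 R (slE R0 κ' M) = slE R κ (emb s M) := by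
  apply Subtype.ext
  apply LinearEquiv.ext
  intro v
  rw [slE_coe, psi, extE_coe, extH_apply, slE_coe, slL_apply, slL_apply, res_apply, ← map_inv (emb s), emb_coe,
    emb_coe, embM_transpose, embM_mulVec', embM_mulVec']
  refine Prod.ext (Prod.ext ?_ ?_) ?_
  · rfl
  · rfl
  · exact add_zero _

end HUmap

end Cfsg.Agent.H105.Og
end

-- part: H785/CompLem
section
/-!
# Companion matrices of determinant one which are Singer elements (S2454, helper785)
-/

set_option autoImplicit false

namespace Cfsg.Agent.H785.CompLem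

open Polynomial Matrix Cfsg.Agent.H514.DP

universe u

section field

variable (F : Type u) [Field F] [Finite F]

/-- an element of norm one which generates the extension of degree `n ≥ 3` and is not conjugate to its inverse -/
theorem exists_elt {n : ℕ} (hn : 3 ≤ n) :
    ∃ (E : Type) (_ : Field E) (_ : Finite E) (_ : Algebra F E) (_ : FiniteDimensional F E) (z : E),
      Module.finrank F E = n ∧ Algebra.adjoin F {z} = ⊤ ∧ z ≠ 0 ∧ Algebra.norm F z = 1 ∧
        aeval z⁻¹ (minpoly F z) ≠ 0 := by
  have : Fintype F := Fintype.ofFinite F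
  obtain ⟨p, hp⟩ := CharP.exists F
  have hpp : Fact p.Prime := ⟨CharP.char_is_prime F p⟩
  have hn0 : NeZero n := ⟨by omega⟩
  set q := Nat.card F with hq
  have hq2 : 2 ≤ q := Finite.one_lt_card
  have hcard : Nat.card (FiniteField.Extension F p n) = q ^ n := FiniteField.natCard_extension F p n
  obtain ⟨g, hg⟩ := IsCyclic.exists_generator (α := (FiniteField.Extension F p n)ˣ)
  have hog : orderOf g = q ^ n - 1 := by
    rw [orderOf_eq_card_of_forall_mem_zpowers hg, Nat.card_units, hcard]
  -- `N = (q ^ n - 1) / (q - 1)`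
  set N := (q ^ n - 1) / (q - 1) with hN
  have hNq : N * (q - 1) = q ^ n - 1 := Nat.div_mul_cancel (Nat.sub_one_dvd_pow_sub_one q n)
  have hNlt : q ^ (n - 1) + 1 < N := by
    have h1 : N = ∑ i ∈ Finset.range n, q ^ i := (Nat.geomSum_eq hq2 n).symm
    obtain ⟨m, rfl⟩ : ∃ m, n = m + 3 := ⟨n - 3, by omega⟩
    rw [h1, Finset.sum_range_succ, Finset.sum_range_succ', Finset.sum_range_succ']
    have h2 : 0 < q ^ (0 + 1) := Nat.pow_pos (by omega)
    simp only [pow_zero]
    have h3 : m + 3 - 1 = m + 2 := by omega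
    rw [h3]
    omega
  set z : FiniteField.Extension F p n := ((g ^ (q - 1) : (FiniteField.Extension F p n)ˣ) : FiniteField.Extension F p n) with hz
  have hz0 : z ≠ 0 := Units.ne_zero _
  have hzN : ∀ m : ℕ, z ^ m = 1 → N ∣ m := by
    intro m hm
    have h1 : (g ^ (q - 1)) ^ m = 1 := Units.ext (by rw [Units.val_pow_eq_pow_val]; exact hm)
    rw [← pow_mul] at h1
    have h2 := orderOf_dvd_of_pow_eq_one h1
    rw [hog, ← hNq, mul_comm N] at h2
    exact Nat.dvd_of_mul_dvd_mul_left (by omega) h2
  refine ⟨FiniteField.Extension F p n, inferInstance, inferInstance, inferInstance, inferInstance, z,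
    FiniteField.finrank_extension F p n, ?_, hz0, ?_, ?_⟩
  · -- `z` generates
    have h1 : IntermediateField.adjoin F {z} = ⊤ := by
      by_contra hcon
      set K := IntermediateField.adjoin F {z} with hK
      have hzK : z ∈ K := IntermediateField.mem_adjoin_simple_self F z
      have h2 : Module.finrank F K < n := by
        have h3 : Module.finrank F K ≤ Module.finrank F (FiniteField.Extension F p n) :=
          IntermediateField.finrank_le_of_le_right le_top |>.trans (by rw [IntermediateField.finrank_top'])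
        rw [FiniteField.finrank_extension] at h3
        rcases Nat.lt_or_ge (Module.finrank F K) n with h4 | h4
        · exact h4
        · exfalso
          apply hcon
          exact IntermediateField.eq_of_le_of_finrank_le le_top (by
            rw [IntermediateField.finrank_top', FiniteField.finrank_extension]
            exact h4)
      have h5 : Nat.card K = q ^ Module.finrank F K := Module.natCard_eq_pow_finrank (K := F)
      have h6 : z ^ (Nat.card K - 1) = 1 := by
        have : Fintype K := Fintype.ofFinite K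
        have h7 : (⟨z, hzK⟩ : K) ≠ 0 := fun h => hz0 (congrArg Subtype.val h)
        have h8 := FiniteField.pow_card_sub_one_eq_one _ h7
        rw [← Nat.card_eq_fintype_card] at h8
        exact congrArg Subtype.val h8
      have h9 := hzN _ h6
      have h10 : 2 ≤ Nat.card K := Finite.one_lt_card
      have h11 := Nat.le_of_dvd (by omega) h9
      have h12 : q ^ Module.finrank F K ≤ q ^ (n - 1) := Nat.pow_le_pow_right (by omega) (by omega)
      omega
    have h2 := IntermediateField.adjoin_simple_toSubalgebra_of_isAlgebraic (F := F) (α := z)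
      (Algebra.IsAlgebraic.isAlgebraic z)
    rw [← h2, h1]
    rfl
  · -- norm
    apply (algebraMap F (FiniteField.Extension F p n)).injective
    rw [FiniteField.algebraMap_norm_eq_pow, hcard, map_one]
    rw [← hq, ← hN, hz, ← Units.val_pow_eq_pow_val, ← pow_mul, mul_comm (q - 1), hNq, ← hog, pow_orderOf_eq_one]
    rfl
  · intro h
    obtain ⟨σ, hσ⟩ := minpoly.exists_algEquiv_of_root' (K := F) (x := z⁻¹) (y := z)
      (Algebra.IsAlgebraic.isAlgebraic z) h
    obtain ⟨i, hi, rfl⟩ := FiniteField.Extension.exists_frob_pow_eq F p n σ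
    rw [FiniteField.Extension.frob_iterate_apply] at hσ
    have h1 : z ^ (q ^ i + 1) = 1 := by rw [pow_succ, hσ, inv_mul_cancel₀ hz0]
    have h2 := Nat.le_of_dvd (Nat.succ_pos _) (hzN _ h1)
    have h3 : q ^ i ≤ q ^ (n - 1) := Nat.pow_le_pow_right (by omega) (by omega)
    omega

/-- **Lemma F**: a companion matrix of determinant one with irreducible characteristic polynomial, not conjugate to its
inverse. -/
theorem exists_comp {n : ℕ} (hn : 3 ≤ n) :
    ∃ (c : ℕ → F) (P : F[X]), (_root_.Cfsg.Agent.H514.DP.comp n c).det = 1 ∧ Irreducible P ∧ P.Monic ∧ P.natDegree = n ∧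
      (_root_.Cfsg.Agent.H514.DP.comp n c).charpoly = P ∧ aeval (_root_.Cfsg.Agent.H514.DP.comp n c) P = 0 ∧ P.eval 1 ≠ 0 ∧
      (∀ v : Fin n → F, (aeval (_root_.Cfsg.Agent.H514.DP.comp n c)⁻¹ P) *ᵥ v = 0 → v = 0) ∧
      (∀ v : Fin n → F, v ≠ 0 → ∀ w : Fin n → F, ∃ f : F[X], (aeval (_root_.Cfsg.Agent.H514.DP.comp n c) f) *ᵥ v = w) := by
  obtain ⟨E, hE1, hE2, hE3, hE4, z, hfr, hadj, hz0, hnorm, hinv⟩ := exists_elt F hn
  have hint : IsIntegral F z := Algebra.IsIntegral.isIntegral z
  obtain ⟨pb, hgen⟩ : ∃ pb : PowerBasis F E, pb.gen = z :=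
    ⟨PowerBasis.ofAdjoinEqTop hint hadj, PowerBasis.ofAdjoinEqTop_gen hint hadj⟩
  have hdim : pb.dim = n := by rw [← pb.finrank, hfr]
  subst hdim
  subst hgen
  have hcomp : _root_.Cfsg.Agent.H514.DP.comp pb.dim (fun i => - pb.minpolyGen.coeff i) = Algebra.leftMulMatrix pb.basis pb.gen :=
    (pb.leftMulMatrix).symm
  have hunit : ∀ y : E, y ≠ 0 → ∀ v : Fin pb.dim → F, Algebra.leftMulMatrix pb.basis y *ᵥ v = 0 → v = 0 := by
    intro y hy v hv
    have h1 : Algebra.leftMulMatrix pb.basis y⁻¹ *ᵥ (Algebra.leftMulMatrix pb.basis y *ᵥ v) = v := by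
      rw [mulVec_mulVec, ← map_mul, inv_mul_cancel₀ hy, map_one, one_mulVec]
    rw [← h1, hv, mulVec_zero]
  have hinvM : (Algebra.leftMulMatrix pb.basis pb.gen)⁻¹ = Algebra.leftMulMatrix pb.basis pb.gen⁻¹ := by
    apply Matrix.inv_eq_right_inv
    rw [← map_mul, mul_inv_cancel₀ hz0, map_one]
  have hirr : Irreducible (minpoly F pb.gen) := minpoly.irreducible hint
  refine ⟨fun i => - pb.minpolyGen.coeff i, minpoly F pb.gen, ?_, hirr, minpoly.monic hint, pb.natDegree_minpoly, ?_,
    ?_, ?_, ?_, ?_⟩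
  · rw [hcomp, ← Algebra.norm_eq_matrix_det, hnorm]
  · rw [hcomp, charpoly_leftMulMatrix]
  · rw [hcomp, aeval_algHom_apply, minpoly.aeval, map_zero]
  · intro h
    have h1 := Polynomial.degree_eq_one_of_irreducible_of_root hirr (show IsRoot (minpoly F pb.gen) 1 from h)
    rw [pb.degree_minpoly] at h1
    have h2 : pb.dim = 1 := by exact_mod_cast h1
    omega
  · rw [hcomp, hinvM, aeval_algHom_apply]
    exact hunit _ hinv
  · intro v hv w
    set e := pb.basis.equivFun.symm v with he
    set e' := pb.basis.equivFun.symm w with he'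
    have he0 : e ≠ 0 := by
      intro h0
      apply hv
      rw [← pb.basis.equivFun.apply_symm_apply v, ← he, h0, map_zero]
    obtain ⟨f, hf⟩ := pb.exists_eq_aeval' (e' * e⁻¹)
    refine ⟨f, ?_⟩
    rw [hcomp, aeval_algHom_apply, ← hf]
    have h1 := Algebra.leftMulMatrix_mulVec_repr pb.basis (e' * e⁻¹) e
    have h2 : ⇑(pb.basis.repr e) = v := by
      rw [← pb.basis.equivFun_apply, he, LinearEquiv.apply_symm_apply]
    have h3 : ⇑(pb.basis.repr (e' * e⁻¹ * e)) = w := by
      rw [inv_mul_cancel_right₀ he0, ← pb.basis.equivFun_apply, he', LinearEquiv.apply_symm_apply]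
    rw [h2, h3] at h1
    exact h1

end field

end Cfsg.Agent.H785.CompLem
end

-- part: H785/CompLemF
section
/-!
# Lemma F of S2454 in the form of `tools/plans/S2454_O.lean.txt` (helper785)
-/

set_option autoImplicit false

namespace Cfsg.Agent.H785.CompLem

open Polynomial Matrix Cfsg.Agent.H514.DP

variable {F : Type} [Field F] [Finite F]

/-- **LEMMA F**: the companion matrix of the minimal polynomial of a generator of the norm one group. -/
theorem lemmaF {n : ℕ} (hn : 3 ≤ n) : ∃ (c : ℕ → F) (h : (_root_.Cfsg.Agent.H514.DP.comp n c).det = 1) (P : F[X]) (v0 : Fin n → F),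
    aeval (compSL n c h).1 P = 0 ∧
    (∀ x : Fin n → F, (aeval ((compSL n c h)⁻¹).1 P) *ᵥ x = 0 → x = 0) ∧ P.eval 1 ≠ 0 ∧ v0 ≠ 0 ∧
    Submodule.span F (Set.range fun i : ℕ => ((compSL n c h).1 ^ i) *ᵥ v0) = ⊤ := by
  obtain ⟨c, P, h, -, -, -, -, h1, h2, h3, h4⟩ := exists_comp F hn
  have hne : (Pi.single ⟨0, by omega⟩ 1 : Fin n → F) ≠ 0 := by
    intro h0
    have := congrFun h0 ⟨0, by omega⟩
    rw [Pi.single_eq_same] at this
    exact one_ne_zero this
  refine ⟨c, h, P, Pi.single ⟨0, by omega⟩ 1, h1, ?_, h2, hne, ?_⟩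
  · have h5 : ((compSL n c h)⁻¹).1 = (_root_.Cfsg.Agent.H514.DP.comp n c)⁻¹ := by
      symm
      apply Matrix.inv_eq_right_inv
      exact congrArg Subtype.val (mul_inv_cancel (compSL n c h))
    rw [h5]
    exact h3
  · rw [eq_top_iff]
    intro w _
    obtain ⟨f, hf⟩ := h4 _ hne w
    rw [← hf, aeval_eq_sum_range, Matrix.sum_mulVec]
    refine Submodule.sum_mem _ fun i _ => ?_
    rw [Matrix.smul_mulVec]
    exact Submodule.smul_mem _ _ (Submodule.subset_span ⟨i, rfl⟩)

end Cfsg.Agent.H785.CompLem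
end

-- part: H105/Og/Engine
section
/-!
# The engine for the orthogonal rows of S2454 (helper105)
-/

set_option autoImplicit false
set_option linter.unusedSectionVars false

namespace Cfsg.Agent.H105.Og

open QuadraticMap Matrix Module Subgroup Polynomial Cfsg.Agent.LieClassical.OrthCore Cfsg.Agent.H514.DP

variable {F : Type} [Field F] [Finite F] {U : Type} [AddCommGroup U] [Module F U] [FiniteDimensional F U]

theorem card_centralizer_le {V : Type} [AddCommGroup V] [Module F V] [FiniteDimensional F V]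
    {Q : QuadraticForm F V} (g : E Q) :
    Nat.card (centralizer ({g} : Set (E Q))) ≤
      Nat.card {y : Module.End F V // Commute ((g : V ≃ₗ[F] V) : V →ₗ[F] V) y ∧ ∀ v, Q (y v) = Q v} := by
  have : Finite V := Module.finite_of_finite F
  have : Finite (Module.End F V) := Finite.of_injective (fun f : Module.End F V => (f : V → V)) DFunLike.coe_injective
  refine Nat.card_le_card_of_injective
    (fun h => ⟨(((h : E Q) : V ≃ₗ[F] V) : V →ₗ[F] V), ?_, fun v => mem_O.1 (E_le_O (h : E Q).2) v⟩) ?_
  · have h1 : g * (h : E Q) = (h : E Q) * g := (Subgroup.mem_centralizer_singleton_iff.1 h.2).symm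
    have h2 := congrArg (fun z : E Q => ((z : V ≃ₗ[F] V) : V →ₗ[F] V)) h1
    exact h2
  · intro a b hab
    have h1 := congrArg Subtype.val hab
    have h2 := LinearEquiv.toLinearMap_injective h1
    exact Subtype.ext (Subtype.ext h2)

theorem finite_E {V : Type} [AddCommGroup V] [Module F V] [FiniteDimensional F V]
    (Q : QuadraticForm F V) : Finite (E Q) := by
  have : Finite V := Module.finite_of_finite F
  have : Finite (V ≃ₗ[F] V) := Finite.of_injective (fun f : V ≃ₗ[F] V => (f : V → V)) DFunLike.coe_injective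
  infer_instance

/-- the bound for the centralizer, as in `lemmaB` -/
def CentB (n : ℕ) (R : QuadraticForm F U) (c : ℕ) : Prop :=
  ∀ (A : _root_.Matrix.SpecialLinearGroup (Fin n) F) (P : F[X]), aeval A.1 P = 0 →
    (∀ x : Fin n → F, (aeval (A⁻¹).1 P) *ᵥ x = 0 → x = 0) → P.eval 1 ≠ 0 →
    ∀ v0 : Fin n → F, v0 ≠ 0 → Submodule.span F (Set.range fun i : ℕ => (A.1 ^ i) *ᵥ v0) = ⊤ →
    Nat.card {y : Module.End F (((Fin n → F) × (Fin n → F)) × U) //
      Commute (slL (Fin n) F U A : (((Fin n → F) × (Fin n → F)) × U) →ₗ[F] (((Fin n → F) × (Fin n → F)) × U)) y ∧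
        ∀ v, HU (Fin n) R (y v) = HU (Fin n) R v} ≤ (Nat.card F ^ n - 1) * c

theorem engine {n : ℕ} (hn : 3 ≤ n) {R : QuadraticForm F U} (hR : Nondeg R) {c d p : ℕ}
    (hc : CentB n R c) (hA : MinDeg (E (HU (Fin n) R)) d)
    (hnum : ((Nat.card F ^ n - 1) * c - 1) ^ 7 < d ^ 10)
    (hy : ∀ (cc : ℕ → F) (h : (_root_.Cfsg.Agent.H514.DP.comp n cc).det = 1), PE p 10 (slE R (Fin n) (compSL n cc h))) :
    PW p 70 (E (HU (Fin n) R)) := by
  have hfin : Finite (E (HU (Fin n) R)) := finite_E _
  obtain ⟨cc, h, P, v0, h1, h2, h3, h4, h5⟩ := H785.CompLem.lemmaF (F := F) hn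
  have hperf : _root_.commutator (E (HU (Fin n) R)) = ⊤ := perfect_of_good (good_HU hR (by omega))
  have hcard := (card_centralizer_le (slE R (Fin n) (compSL n cc h))).trans (hc _ P h1 h2 h3 v0 h4 h5)
  exact PW.of_pe (m := 10) (k := 7) hperf (hy cc h) hA (by norm_num)
    (lt_of_le_of_lt (Nat.pow_le_pow_left (Nat.sub_le_sub_right hcard 1) 7) hnum)

/-- windows: products of elements of two subgroups `E (HU (Fin (i+1)) 0)` -/
theorem windows {n i : ℕ} (hi1 : i + 1 ≤ n) (hi2 : n < 2 * i) (R : QuadraticForm F U) {p m : ℕ}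
    (hW : PW p m (E (HU (Fin (i + 1)) (0 : QuadraticForm F (Fin 0 → F)))))
    (cc : ℕ → F) (h : (_root_.Cfsg.Agent.H514.DP.comp n cc).det = 1) : PE p (m + m) (slE R (Fin n) (compSL n cc h)) := by
  have key : ∀ (w l : ℕ) (hl : l + w ≤ n) (M : _root_.Matrix.SpecialLinearGroup (Fin w) F), w ≤ i + 1 →
      PE p m (slE R (Fin n) (emb (sh l hl) M)) := by
    intro w l hl M hw
    have h0 : ∀ u : Fin 0 → F, u = 0 := fun u => Subsingleton.elim _ _
    obtain ⟨l0, l1, hl0, e1, hl1⟩ : ∃ l0 l1 : ℕ, l0 + (i + 1) ≤ n ∧ l0 + l1 = l ∧ l1 + w ≤ i + 1 := by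
      by_cases hh : l + (i + 1) ≤ n
      · exact ⟨l, 0, hh, by omega, by omega⟩
      · exact ⟨n - (i + 1), l - (n - (i + 1)), by omega, by omega, by omega⟩
    have e2 : (sh l1 hl1).trans (sh l0 hl0) = sh l hl := by
      ext k
      show l0 + (l1 + k) = l + k
      omega
    rw [← e2, ← emb_trans, ← psi_slE (sh l0 hl0) h0 0 R]
    exact (hW _).map _
  obtain ⟨b, rfl⟩ : ∃ b, n = i + b + 1 := ⟨n - 1 - i, by omega⟩
  obtain ⟨c', c'', h', h'', e⟩ := exists_comp_mul i b cc h
  rw [e, map_mul]
  exact (key _ _ _ _ le_rfl).mul (key _ _ _ _ (by omega))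

end Cfsg.Agent.H105.Og
end

private theorem dce_94de027cd705 : _root_.True := by
  try have : _root_.True := by simp only [_root_.Cfsg.Agent.H105.Og.psi.eq_1]
  exact _root_.True.intro
end

-- part: H166/Og/XCore
section
set_option linter.all false
open scoped Cfsg.Agent.FastGrp

/-!
# Elements of order `p` in the orthogonal groups (S2454, helper166)
-/

set_option autoImplicit false
set_option linter.unusedSectionVars false

namespace Cfsg.Agent.H166.Og

open QuadraticMap Matrix Module Subgroup Cfsg.Agent.LieClassical.OrthCore Cfsg.Agent.LieClassical.OrthTrans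
  Cfsg.Agent.H514.DP Cfsg.Agent.H105.Og

section Count

variable {F : Type} [Field F] [Finite F] {U : Type} [AddCommGroup U] [Module F U] [FiniteDimensional F U]

theorem card_dot {n : ℕ} {x : Fin n → F} (hx : x ≠ 0) (c : F) :
    Nat.card {y : Fin n → F // x ⬝ᵥ y = c} = Nat.card F ^ (n - 1) := by
  classical
  have := Fintype.ofFinite F
  obtain ⟨i, hi⟩ := Function.ne_iff.1 hx
  have hn : 1 ≤ n := by
    rcases n with _ | n
    · exact i.elim0
    · omega
  let f : (Fin n → F) →ₗ[F] F := dotProductBilin F F x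
  have hf : ∀ y, f y = x ⬝ᵥ y := fun y => rfl
  have hsurj : Function.Surjective f := by
    intro a
    refine ⟨Pi.single i (a / x i), ?_⟩
    rw [hf, dotProduct_single, mul_div_cancel₀ _ hi]
  obtain ⟨y0, hy0⟩ := hsurj c
  have e : {y : Fin n → F // x ⬝ᵥ y = c} ≃ LinearMap.ker f :=
    { toFun := fun y => ⟨y.1 - y0, by rw [LinearMap.mem_ker, map_sub, hf, y.2, hy0, sub_self]⟩
      invFun := fun y => ⟨y.1 + y0, by
        have := y.2
        rw [LinearMap.mem_ker] at this
        rw [← hf, map_add, this, hy0, zero_add]⟩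
      left_inv := fun y => Subtype.ext (sub_add_cancel _ _)
      right_inv := fun y => Subtype.ext (add_sub_cancel_right _ _) }
  rw [Nat.card_congr e, Module.natCard_eq_pow_finrank (K := F)]
  have h1 := LinearMap.finrank_range_add_finrank_ker f
  rw [LinearMap.range_eq_top.2 hsurj, finrank_top, Module.finrank_self, Module.finrank_fin_fun] at h1
  congr 1
  omega

/-- the number of singular vectors of `x ⬝ᵥ y + R u` -/
theorem card_sing (n : ℕ) (R : QuadraticForm F U) :
    Nat.card {v : ((Fin n → F) × (Fin n → F)) × U // HU (Fin n) R v = 0} =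
      (Nat.card F ^ n - 1) * (Nat.card F ^ (n - 1) * Nat.card F ^ finrank F U) +
        Nat.card F ^ n * Nat.card {u : U // R u = 0} := by
  classical
  have : Finite U := Module.finite_of_finite F
  have := Fintype.ofFinite F
  have := Fintype.ofFinite U
  have e : {v : ((Fin n → F) × (Fin n → F)) × U // HU (Fin n) R v = 0} ≃
      Σ x : Fin n → F, Σ u : U, {y : Fin n → F // x ⬝ᵥ y = - R u} :=
    { toFun := fun v => ⟨v.1.1.1, v.1.2, v.1.1.2, by
        have := v.2
        rw [HU_apply] at this
        exact eq_neg_of_add_eq_zero_left this⟩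
      invFun := fun v => ⟨((v.1, v.2.2.1), v.2.1), by
        rw [HU_apply, v.2.2.2, neg_add_cancel]⟩
      left_inv := fun v => rfl
      right_inv := fun v => rfl }
  rw [Nat.card_congr e, Nat.card_sigma]
  have h1 : ∀ x : Fin n → F, x ≠ 0 → Nat.card (Σ u : U, {y : Fin n → F // x ⬝ᵥ y = - R u}) =
      Nat.card F ^ (n - 1) * Nat.card F ^ finrank F U := by
    intro x hx
    rw [Nat.card_sigma]
    simp only [card_dot hx]
    rw [Finset.sum_const, Finset.card_univ, smul_eq_mul, ← Nat.card_eq_fintype_card (α := U),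
      Module.natCard_eq_pow_finrank (K := F) (V := U), mul_comm]
  have h2 : Nat.card (Σ u : U, {y : Fin n → F // (0 : Fin n → F) ⬝ᵥ y = - R u}) =
      Nat.card F ^ n * Nat.card {u : U // R u = 0} := by
    have e2 : (Σ u : U, {y : Fin n → F // (0 : Fin n → F) ⬝ᵥ y = - R u}) ≃ (Fin n → F) × {u : U // R u = 0} :=
      { toFun := fun v => (v.2.1, ⟨v.1, by
          have := v.2.2
          rw [zero_dotProduct] at this
          exact neg_eq_zero.1 this.symm⟩)
        invFun := fun v => ⟨v.2.1, v.1, by rw [v.2.2, zero_dotProduct, neg_zero]⟩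
        left_inv := fun v => rfl
        right_inv := fun v => rfl }
    rw [Nat.card_congr e2, Nat.card_prod, Nat.card_fun, Nat.card_fin]
  rw [← Finset.add_sum_erase _ _ (Finset.mem_univ (0 : Fin n → F)), h2,
    Finset.sum_congr rfl (fun x hx => h1 x (Finset.ne_of_mem_erase hx)), Finset.sum_const,
    Finset.card_erase_of_mem (Finset.mem_univ _), Finset.card_univ, smul_eq_mul, ← Nat.card_eq_fintype_card,
    Nat.card_fun, Nat.card_fin, add_comm]

end Count

section Dvd

variable {F : Type} [Field F] [Finite F] {V : Type} [AddCommGroup V] [Module F V] [FiniteDimensional F V]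

/-- transitivity on nonzero singular vectors -/
theorem dvd_card_E {Q : QuadraticForm F V} (hG : Good Q) :
    (Nat.card {v : V // Q v = 0} - 1) ∣ Nat.card (E Q) := by
  classical
  have : Finite V := Module.finite_of_finite F
  have hfin : Finite (E Q) := finite_E Q
  obtain ⟨v0, hv0, hs0⟩ := hG.sing
  have h1 : Nat.card {v : V // v ≠ 0 ∧ Q v = 0} = Nat.card {v : V // Q v = 0} - 1 := by
    have e : {v : V // Q v = 0} ≃ Option {v : V // v ≠ 0 ∧ Q v = 0} :=
      { toFun := fun v => if h : v.1 = 0 then none else some ⟨v.1, h, v.2⟩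
        invFun := fun o => match o with
          | none => ⟨0, QuadraticMap.map_zero Q⟩
          | some v => ⟨v.1, v.2.2⟩
        left_inv := fun v => by
          by_cases h : v.1 = 0
          · simp only [h, dif_pos]
            exact Subtype.ext h.symm
          · simp only [h, dif_neg, not_false_iff]
        right_inv := fun o => by
          rcases o with _ | v
          · simp
          · simp [v.2.1] }
    rw [Nat.card_congr e, Finite.card_option]
    omega
  rw [← h1]
  have h2 : MulAction.orbit (E Q) v0 = {v : V | v ≠ 0 ∧ Q v = 0} := by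
    ext v
    constructor
    · rintro ⟨g, rfl⟩
      refine ⟨?_, ?_⟩
      · intro h
        apply hv0
        have h3 : (g : V ≃ₗ[F] V) v0 = 0 := h
        exact (LinearEquiv.map_eq_zero_iff _).1 h3
      · have h3 : Q ((g : V ≃ₗ[F] V) v0) = Q v0 := mem_O.1 (E_le_O g.2) v0
        have h4 : Q ((g : V ≃ₗ[F] V) v0) = 0 := by rw [h3, hs0]
        exact h4
    · rintro ⟨hv, hs⟩
      obtain ⟨g, hg, h3⟩ := hG.trans_norm hv0 hv (by rw [hs0, hs])
      exact ⟨⟨g, hg⟩, h3⟩
  have h3 := MulAction.index_stabilizer (E Q) v0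
  rw [h2] at h3
  have h4 : Nat.card {v : V // v ≠ 0 ∧ Q v = 0} = ({v : V | v ≠ 0 ∧ Q v = 0} : Set V).ncard :=
    Nat.card_coe_set_eq _
  rw [h4, ← h3]
  exact Subgroup.index_dvd_card _

theorem dvd_pow_add_one {q p i : ℕ} (hp : p.Prime) (hi : 1 ≤ i) (ho : orderOf ((q : ℕ) : ZMod p) = 2 * i) :
    p ∣ q ^ i + 1 := by
  have : Fact p.Prime := ⟨hp⟩
  have h1 : ((q : ZMod p) ^ i) ^ 2 = 1 := by
    rw [← pow_mul, mul_comm, ← ho, pow_orderOf_eq_one]
  have h2 : (q : ZMod p) ^ i ≠ 1 := by
    intro h
    have := orderOf_dvd_of_pow_eq_one h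
    rw [ho] at this
    have := Nat.le_of_dvd (by omega) this
    omega
  have h3 : (q : ZMod p) ^ i = -1 := by
    have h4 : ((q : ZMod p) ^ i - 1) * ((q : ZMod p) ^ i + 1) = 0 := by linear_combination h1
    rcases mul_eq_zero.1 h4 with h | h
    · exact absurd (sub_eq_zero.1 h) h2
    · exact eq_neg_of_add_eq_zero_left h
  rw [← ZMod.natCast_eq_zero_iff]
  push_cast
  rw [h3, neg_add_cancel]

/-- The element of order `p` itself. -/
theorem core {Q : QuadraticForm F V} (hG : Good Q) {i p : ℕ} (hp : p.Prime) (hi : 1 ≤ i)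
    (ho : orderOf ((Nat.card F : ℕ) : ZMod p) = 2 * i) (hd : finrank F V < 4 * i) {c d : ℕ}
    (hc : ∀ U : Submodule F V, finrank F U = finrank F V - 2 * i →
      (∀ u : U, (∀ v : U, QuadraticMap.polar (Q.comp U.subtype) v u = 0) → u = 0) →
      Nat.card {y : Module.End F U // ∀ u, (Q.comp U.subtype) (y u) = (Q.comp U.subtype) u} ≤ c)
    (hMin : MinDeg (E Q) d) (hnum : ((Nat.card F ^ i + 1) * c - 1) ^ 5 < d ^ 6) (hdvd : p ∣ Nat.card (E Q)) :
    PW p 5 (E Q) := by
  have hfin : Finite (E Q) := finite_E Q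
  have : Fact p.Prime := ⟨hp⟩
  obtain ⟨x, hx⟩ := exists_prime_orderOf_dvd_card' p hdvd
  have hpF : ((p : ℕ) : F) ≠ 0 := by
    intro h0
    obtain ⟨r, hchar⟩ := CharP.exists F
    have := Fintype.ofFinite F
    obtain ⟨f, hr, hf⟩ := FiniteField.card F r
    have h1 : r ∣ p := (CharP.cast_eq_zero_iff F r p).1 h0
    have h2 : r = p := (Nat.prime_dvd_prime_iff_eq hr hp).1 h1
    have h3 : ((Nat.card F : ℕ) : ZMod p) = 0 := by
      rw [ZMod.natCast_eq_zero_iff, Nat.card_eq_fintype_card, hf, h2]
      exact dvd_pow_self _ f.pos.ne'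
    rw [h3] at ho
    have h4 : orderOf (0 : ZMod p) = 0 := by
      rw [orderOf_eq_zero_iff']
      intro n hn
      rw [zero_pow hn.ne']
      exact zero_ne_one
    omega
  have hx1 : (((x : V ≃ₗ[F] V) : V →ₗ[F] V) : Module.End F V) ≠ 1 := by
    intro h
    have h1 : x = 1 := by
      apply Subtype.ext
      apply LinearEquiv.ext
      intro v
      exact LinearMap.congr_fun h v
    rw [h1, orderOf_one] at hx
    exact hp.one_lt.ne hx
  have hxp : (((x : V ≃ₗ[F] V) : V →ₗ[F] V) : Module.End F V) ^ p = 1 := by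
    have h1 : x ^ p = 1 := by rw [← hx]; exact pow_orderOf_eq_one x
    have h2 := congrArg (fun z : E Q => ((z : V ≃ₗ[F] V) : V →ₗ[F] V)) h1
    have h3 : ∀ n : ℕ, (((x ^ n : E Q) : V ≃ₗ[F] V) : V →ₗ[F] V) =
        (((x : V ≃ₗ[F] V) : V →ₗ[F] V) : Module.End F V) ^ n := by
      intro n
      induction n with
      | zero => rfl
      | succ n ih =>
        rw [pow_succ, pow_succ, ← ih]
        rfl
    rw [← h3]
    exact h2
  have h1 := H990.TC.Cent.dec Q (fun u hu => hG.nondeg u fun y => by rw [QuadraticMap.polar_comm]; exact hu y) hp hpF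
    _ hx1 hxp (fun v => mem_O.1 (E_le_O x.2) v) ho hd (dvd_pow_add_one hp hi ho) c hc
  have hcard := (card_centralizer_le x).trans h1
  have h2 := PW.of_pe (m := 1) (k := 5) (perfect_of_good hG) (IsPE.of_prime hx).pe hMin (by norm_num)
    (lt_of_le_of_lt (Nat.pow_le_pow_left (Nat.sub_le_sub_right hcard 1) 5) hnum)
  exact h2

end Dvd

end Cfsg.Agent.H166.Og
end
end
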